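import Groth.Agent.Mod48.KInjDerived
import Groth.Agent.CohDer42.RdAdj
import Mathlib.Algebra.Homology.Factorizations.CM5a

/-!
# Derived functors of left exact functors preserve bounds below
-/

universe w w' v v' u u'

open CategoryTheory Category Limits DerivedCategory

set_option autoImplicit false
set_option linter.unusedSectionVars false
set_option backward.isDefEq.respectTransparency false

namespace Groth.Agent.DCoh43

variable {A : Type u} [Category.{v} A] [Abelian A] [IsGrothendieckAbelian.{v} A] [HasDerivedCategory.{w} A]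
  {B : Type u'} [Category.{v'} B] [Abelian B] [HasDerivedCategory.{w'} B]
  (R : A ⥤ B) [R.Additive] (RF : DerivedCategory A ⥤ DerivedCategory B)
  (α : R.mapHomotopyCategory (ComplexShape.up ℤ) ⋙ Qh ⟶ Qh ⋙ RF)
  [RF.IsRightDerivedFunctor α (HomotopyCategory.quasiIso A (ComplexShape.up ℤ))]

/-- An object bounded below has a bounded below injective model. -/
lemma exists_injective_model (X : DerivedCategory A) (n : ℤ) [X.IsGE n] :
    ∃ L : CochainComplex A ℤ, L.IsStrictlyGE n ∧ (∀ i, Injective (L.X i)) ∧ Nonempty (Q.obj L ≅ X) := by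
  let E := Q.objPreimage X
  let e : Q.obj E ≅ X := Q.objObjPreimageIso X
  have : (Q.obj E).IsGE n := TStructure.t.isGE_of_iso e.symm n
  have : E.IsGE n := (DerivedCategory.isGE_Q_obj_iff E n).1 inferInstance
  have : QuasiIso (E.πTruncGE n) := (E.quasiIso_πTruncGE_iff n).mpr inferInstance
  obtain ⟨L, i, _, hL, hLn⟩ :=
    CochainComplex.Plus.modelCategoryQuillen.exists_quasiIso_injective (E.truncGE n) n
  exact ⟨L, hLn, hL, ⟨(asIso (Q.map (E.πTruncGE n ≫ i))).symm ≪≫ e⟩⟩

include α in
/-- The right derived functor preserves bounds below. -/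
theorem isGE_rightDerived (X : DerivedCategory A) (n : ℤ) [X.IsGE n] : (RF.obj X).IsGE n := by
  obtain ⟨L, hLn, hL, ⟨e⟩⟩ := exists_injective_model X n
  have : ∀ i, Injective (L.X i) := hL
  have : L.IsKInjective := CochainComplex.isKInjective_of_injective L n
  have := Mod48.isIso_unit_of_kInjective RF α CohDer42.RdAdj.enoughKInj L inferInstance
  have : CochainComplex.IsStrictlyGE ((R.mapHomologicalComplex (ComplexShape.up ℤ)).obj L) n :=
    (CochainComplex.isStrictlyGE_iff _ _).2 fun i hi => R.map_isZero (L.isZero_of_isStrictlyGE n i hi)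
  have : (Q.obj ((R.mapHomologicalComplex (ComplexShape.up ℤ)).obj L)).IsGE n :=
    (DerivedCategory.isGE_Q_obj_iff _ n).2 inferInstance
  exact TStructure.t.isGE_of_iso
    ((quotientCompQhIso B).symm.app ((R.mapHomologicalComplex (ComplexShape.up ℤ)).obj L) ≪≫
      asIso (α.app ((HomotopyCategory.quotient A (ComplexShape.up ℤ)).obj L)) ≪≫
      RF.mapIso ((quotientCompQhIso A).app L ≪≫ e)) n

end Groth.Agent.DCoh43
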