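import Groth.Agent.EGA73.Invertible
import Groth.Agent.LF71.Restrict
import Groth.Prelude.Def_DCoh2
import Mathlib.Algebra.Homology.HomotopyCategory.MappingCone

/-!
# Finite locally free modules and cones of strictly perfect complexes
-/

universe u

open CategoryTheory Category Limits AlgebraicGeometry

set_option autoImplicit false
set_option linter.unusedSectionVars false

noncomputable section

namespace Groth.Agent.DCoh43

variable {X : Scheme.{u}}

/-- Restriction to a smaller open of a free restriction. -/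
theorem nonempty_restrict_free_of_le {M : X.Modules} {U V : X.Opens} (h : V ≤ U) {n : ℕ}
    (e : M.restrict U.ι ≅ FlatMod.freeMod (↑U) n) : Nonempty (M.restrict V.ι ≅ FlatMod.freeMod (↑V) n) :=
  ⟨(Scheme.Modules.restrictFunctorCongr (X.homOfLE_ι h).symm).app M ≪≫
    (Scheme.Modules.restrictFunctorComp _ _).app M ≪≫
    (Scheme.Modules.restrictFunctor (X.homOfLE h)).mapIso e ≪≫ LF71.restrictFree _ n⟩

/-- Sums of free modules are free. -/
def freeModBiprod (Y : Scheme.{u}) (n m : ℕ) :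
    FlatMod.freeMod Y n ⊞ FlatMod.freeMod Y m ≅ FlatMod.freeMod Y (n + m) where
  hom := biprod.desc (Sigma.desc fun i => Sigma.ι (fun _ : Fin (n + m) => Coh.structureModule Y) (Fin.castAdd m i))
    (Sigma.desc fun i => Sigma.ι (fun _ : Fin (n + m) => Coh.structureModule Y) (Fin.natAdd n i))
  inv := Sigma.desc (Fin.addCases
    (fun i => Sigma.ι (fun _ : Fin n => Coh.structureModule Y) i ≫ biprod.inl)
    (fun i => Sigma.ι (fun _ : Fin m => Coh.structureModule Y) i ≫ biprod.inr))
  hom_inv_id := by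
    refine biprod.hom_ext' _ _ (Sigma.hom_ext _ _ fun i => ?_) (Sigma.hom_ext _ _ fun i => ?_)
    · simp
    · simp
  inv_hom_id := by
    refine Sigma.hom_ext _ _ fun i => ?_
    refine Fin.addCases (fun i => ?_) (fun i => ?_) i <;> simp

/-- Sums of finite locally free modules are finite locally free. -/
theorem isFinLocFree_biprod {M N : X.Modules} (hM : FlatMod.IsFinLocFree M) (hN : FlatMod.IsFinLocFree N) :
    FlatMod.IsFinLocFree (M ⊞ N) := fun x => by
  obtain ⟨U, n, hxU, ⟨e⟩⟩ := hM x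
  obtain ⟨V, m, hxV, ⟨f⟩⟩ := hN x
  obtain ⟨e'⟩ := nonempty_restrict_free_of_le (inf_le_left : U ⊓ V ≤ U) e
  obtain ⟨f'⟩ := nonempty_restrict_free_of_le (inf_le_right : U ⊓ V ≤ V) f
  have := (Scheme.Modules.restrictAdjunction (U ⊓ V).ι).left_adjoint_additive
  have := preservesBinaryBiproducts_of_preservesBiproducts (Scheme.Modules.restrictFunctor (U ⊓ V).ι)
  exact ⟨U ⊓ V, n + m, ⟨hxU, hxV⟩, ⟨(Scheme.Modules.restrictFunctor (U ⊓ V).ι).mapBiprod M N ≪≫
    biprod.mapIso e' f' ≪≫ freeModBiprod _ n m⟩⟩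

/-- The cone of a map of strictly perfect complexes is strictly perfect. -/
theorem isStrictlyPerfect_mappingCone {E F : CochainComplex X.Modules ℤ} (φ : E ⟶ F)
    (hE : DCoh.IsStrictlyPerfect E) (hF : DCoh.IsStrictlyPerfect F) :
    DCoh.IsStrictlyPerfect (CochainComplex.mappingCone φ) := by
  obtain ⟨⟨a, b, hab⟩, hEf⟩ := hE
  obtain ⟨⟨c, d, hcd⟩, hFf⟩ := hF
  let eX := fun i : ℤ => HomologicalComplex.homotopyCofiber.XIsoBiprod φ i (i + 1) rfl
  refine ⟨⟨min (a - 1) c, max (b - 1) d, fun i hi => ?_⟩, fun i => ?_⟩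
  · refine IsZero.of_iso ?_ (eX i)
    exact biprod_isZero_iff _ _ |>.2 ⟨hab (i + 1) (by omega), hcd i (by omega)⟩
  · have h := isFinLocFree_biprod (hEf (i + 1)) (hFf i)
    intro x
    obtain ⟨U, n, hx, ⟨e⟩⟩ := h x
    exact ⟨U, n, hx, ⟨(Scheme.Modules.restrictFunctor U.ι).mapIso (eX i) ≪≫ e⟩⟩

end Groth.Agent.DCoh43
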